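import Mathlib

/-!
# The field with nine elements as codes, and packed vectors over it

The code `a + 3 b` stands for `a + b i` with `i² = -1`.
-/

set_option autoImplicit false

namespace CfsgLib.LocalEvenB.McLUnitary

/-- Addition. -/
def fadd (x y : Nat) : Nat := (x % 3 + y % 3) % 3 + 3 * ((x / 3 + y / 3) % 3)

/-- Multiplication. -/
def fmul (x y : Nat) : Nat :=
  (x % 3 * (y % 3) + 2 * (x / 3 * (y / 3))) % 3 + 3 * ((x % 3 * (y / 3) + x / 3 * (y % 3)) % 3)

/-- Conjugation. -/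
def fconj (x : Nat) : Nat := x % 3 + 3 * (2 * (x / 3) % 3)

/-- An entry of a packed vector. -/
def ent (v k : Nat) : Nat := v / 9 ^ k % 9

/-- The hermitian form. -/
def herm (u v : Nat) : Nat :=
  fadd (fadd (fadd (fmul (ent u 0) (fconj (ent v 0))) (fmul (ent u 1) (fconj (ent v 1))))
    (fmul (ent u 2) (fconj (ent v 2)))) (fmul (ent u 3) (fconj (ent v 3)))

/-- An entry of the image under the transvection by `v` and `c`. -/
def transv (v c x k : Nat) : Nat := fadd (ent x k) (fmul (fmul c (herm x v)) (ent v k))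

/-- An entry of a combination of two vectors. -/
def comb (a u b v k : Nat) : Nat := fadd (fmul a (ent u k)) (fmul b (ent v k))

variable {F : Type*} [Field F]

/-- Decoding of a scalar. -/
def dec (r : F) (x : Nat) : F := ((x % 3 : ℕ) : F) + ((x / 3 : ℕ) : F) * r

/-- Decoding of a vector. -/
def toV (r : F) (v : Nat) : Fin 4 → F := fun i => dec r (ent v i.val)

theorem ent_lt (v k : Nat) : ent v k < 9 := Nat.mod_lt _ (by norm_num)

theorem enc_mod (a b : ℕ) (ha : a < 3) : (a + 3 * b) % 3 = a ∧ (a + 3 * b) / 3 = b := by omega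

variable [CharP F 3] {r : F} (hr : r ^ 2 = -1)
include hr

theorem cast_mod (n : ℕ) : ((n % 3 : ℕ) : F) = n := (CharP.cast_eq_mod F 3 n).symm

theorem three_zero : (3 : F) = 0 := by simpa using (CharP.cast_eq_zero F 3)

theorem dec_fadd (x y : ℕ) : dec r (fadd x y) = dec r x + dec r y := by
  have h := enc_mod ((x % 3 + y % 3) % 3) ((x / 3 + y / 3) % 3) (Nat.mod_lt _ (by norm_num))
  rw [dec, fadd, h.1, h.2, cast_mod hr, cast_mod hr, dec, dec]
  push_cast
  ring

theorem dec_fmul (x y : ℕ) : dec r (fmul x y) = dec r x * dec r y := by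
  have h := enc_mod ((x % 3 * (y % 3) + 2 * (x / 3 * (y / 3))) % 3)
    ((x % 3 * (y / 3) + x / 3 * (y % 3)) % 3) (Nat.mod_lt _ (by norm_num))
  rw [dec, fmul, h.1, h.2, cast_mod hr, cast_mod hr, dec, dec]
  push_cast
  linear_combination -(((x / 3 : ℕ) : F) * ((y / 3 : ℕ) : F)) * hr +
    (((x / 3 : ℕ) : F) * ((y / 3 : ℕ) : F)) * three_zero hr

theorem dec_fconj (x : ℕ) : dec r (fconj x) = dec r x ^ 3 := by
  have h := enc_mod (x % 3) (2 * (x / 3) % 3) (Nat.mod_lt _ (by norm_num))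
  have : Fact (Nat.Prime 3) := ⟨by norm_num⟩
  rw [dec, fconj, h.1, h.2, cast_mod hr (2 * (x / 3)), dec]
  change _ = frobenius F 3 _
  rw [map_add, map_mul, map_natCast, map_natCast, frobenius_def]
  push_cast
  linear_combination -(((x / 3 : ℕ) : F) * r) * hr + (((x / 3 : ℕ) : F) * r) * three_zero hr

theorem dec_inj {x y : ℕ} (hx : x < 9) (hy : y < 9) (h : dec r x = dec r y) : x = y := by
  have h1 : (((x % 3 + 3 - y % 3) ^ 2 : ℕ) : F) = ((2 * (x / 3 + 3 - y / 3) ^ 2 : ℕ) : F) := by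
    push_cast [Nat.cast_sub (show y % 3 ≤ x % 3 + 3 by omega),
      Nat.cast_sub (show y / 3 ≤ x / 3 + 3 by omega)]
    rw [three_zero hr, add_zero, add_zero]
    rw [dec, dec] at h
    have h2 : ((x % 3 : ℕ) : F) - (y % 3 : ℕ) = -(((x / 3 : ℕ) : F) - (y / 3 : ℕ)) * r := by
      linear_combination h
    rw [h2]
    linear_combination (((x / 3 : ℕ) : F) - (y / 3 : ℕ)) ^ 2 * hr -
      ((((x / 3 : ℕ) : F) - (y / 3 : ℕ)) ^ 2) * three_zero hr
  rw [CharP.natCast_eq_natCast F 3] at h1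
  revert h1
  have key : ∀ a < 9, ∀ b < 9,
      (a % 3 + 3 - b % 3) ^ 2 % 3 = 2 * (a / 3 + 3 - b / 3) ^ 2 % 3 → a = b := by
    decide +kernel
  exact key x hx y hy

theorem dec_zero : dec r 0 = 0 := by simp [dec]

theorem dec_one : dec r 1 = 1 := by simp [dec]

theorem dec_surjective [Fintype F] (hF : Fintype.card F = 9) (a : F) :
    ∃ x < 9, dec r x = a := by
  have hinj : Function.Injective fun x : Fin 9 => dec r x.val := fun x y h =>
    Fin.ext (dec_inj hr x.isLt y.isLt h)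
  obtain ⟨x, hx⟩ := ((Fintype.bijective_iff_injective_and_card _).2
    ⟨hinj, by rw [hF, Fintype.card_fin]⟩).2 a
  exact ⟨x.val, x.isLt, hx⟩

theorem toV_comb (a u b v : ℕ) (i : Fin 4) :
    dec r (comb a u b v i.val) = (dec r a • toV r u + dec r b • toV r v) i := by
  rw [comb, dec_fadd hr, dec_fmul hr, dec_fmul hr]
  rfl

theorem dec_herm (u v : ℕ) : dec r (herm u v) =
    toV r u 0 * toV r v 0 ^ 3 + toV r u 1 * toV r v 1 ^ 3 + toV r u 2 * toV r v 2 ^ 3 +
      toV r u 3 * toV r v 3 ^ 3 := by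
  simp only [herm, dec_fadd hr, dec_fmul hr, dec_fconj hr, toV]
  rfl

end CfsgLib.LocalEvenB.McLUnitary
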