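import Cfsg.Agent.Lib.LocalEvenB.McLUnitary.Data
import Cfsg.Agent.Lib.LocalEvenB.McLUnitary.Field
import Cfsg.Agent.Lib.Sporadic.ConwayConfigs

/-!
# The checks of the tables
-/

set_option autoImplicit false
set_option maxRecDepth 100000
set_option Elab.async false

namespace CfsgLib.LocalEvenB.McLUnitary

open CfsgLib.Sporadic.Conway Cfsg CfsgLib.ThreeTrans.Leech CfsgLib.Sporadic.Lattice

/-- Whether a vector code is normalised. -/
def normalised (v : ℕ) : Bool :=
  ent v 0 == 1 || (ent v 0 == 0 && (ent v 1 == 1 || (ent v 1 == 0 &&
    (ent v 2 == 1 || (ent v 2 == 0 && ent v 3 == 1)))))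

theorem points_complete : ((List.range 6561).all fun v =>
    !(normalised v && herm v v == 0) || points.contains v) = true := by
  decide +kernel

/-- One edge of the tree of points. -/
def edgeOK (x : ℕ) : Bool :=
  x == root ||
    (let p := parent.getD x 0
     decide (rank.getD (p / 8) 0 < rank.getD x 0) && decide (p % 8 < 4) && decide (p / 8 < 280) &&
      (parentScal.getD x 0 != 0) && decide (parentScal.getD x 0 < 9) &&
      (List.range 4).all fun i =>
        transv (genVec.getD (p % 8) 0) (genCoef.getD (p % 8) 0) (points.getD (p / 8) 0) i ==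
          fmul (parentScal.getD x 0) (ent (points.getD x 0) i))

theorem edges_ok : ((List.range 280).all edgeOK) = true := by decide +kernel

theorem points_size : points.length = 280 ∧ root < 280 := by decide +kernel

theorem gen_ok : ∀ k < 4, herm (genVec.getD k 0) (genVec.getD k 0) = 0 ∧
    (genCoef.getD k 0 = 3 ∨ genCoef.getD k 0 = 6) ∧ genVec.getD 0 0 = points.getD root 0 := by
  decide +kernel

/-- One transition between lines. -/
def transOK (k a : ℕ) : Bool :=
  let t := (transTab.getD k []).getD a 0
  let b := (permTab.getD k []).getD a 0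
  decide (b < 112) &&
    (List.range 4).all fun i =>
      transv (genVec.getD k 0) (genCoef.getD k 0) (lineA.getD a 0) i ==
          comb (t % 9) (lineA.getD b 0) (t / 9 % 9) (lineB.getD b 0) i &&
        transv (genVec.getD k 0) (genCoef.getD k 0) (lineB.getD a 0) i ==
          comb (t / 81 % 9) (lineA.getD b 0) (t / 729) (lineB.getD b 0) i

theorem trans_ok : ((List.range 4).all fun k => (List.range 112).all fun a => transOK k a) = true := by
  decide +kernel

theorem lines_isotropic : ((List.range 112).all fun a =>
    herm (lineA.getD a 0) (lineA.getD a 0) == 0 && herm (lineA.getD a 0) (lineB.getD a 0) == 0 &&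
      herm (lineB.getD a 0) (lineA.getD a 0) == 0 &&
      herm (lineB.getD a 0) (lineB.getD a 0) == 0) = true := by
  decide +kernel

theorem lines_apart : ((List.range 112).all fun a => (List.range 112).all fun b => a == b ||
    herm (lineA.getD a 0) (lineA.getD b 0) != 0 || herm (lineA.getD a 0) (lineB.getD b 0) != 0 ||
      herm (lineB.getD a 0) (lineA.getD b 0) != 0 ||
      herm (lineB.getD a 0) (lineB.getD b 0) != 0) = true := by
  decide +kernel

theorem perm_moves : ∃ a < 112, (permTab.getD 0 []).getD a 0 ≠ a := by decide +kernel

theorem perm_lt : ((List.range 4).all fun k => (List.range 112).all fun a =>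
    decide ((permTab.getD k []).getD a 0 < 112)) = true := by decide +kernel

/-- The packed third fixed vector. -/
def kMcl : ℕ := 62062060636173731114942761160

theorem words_valid : ((List.range 4).all fun k => (wordTab.getD k []).all stepValid &&
    [kFive, kPair, kMcl].all fun f => decide (evalWord (wordTab.getD k []) f = some f)) = true := by
  decide +kernel

theorem words_step : ((List.range 4).all fun k => (List.range 112).all fun a =>
    decide (evalWord (wordTab.getD k []) (pts.getD a 0) =
      some (pts.getD ((permTab.getD k []).getD a 0) 0))) = true := by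
  decide +kernel

theorem pts_nodup : ((List.range 112).map fun i => pts.getD i 0).Nodup ∧
    ((List.range 112).all fun i => decide (pts.getD i 0 < 2 ^ 96)) = true := by
  decide +kernel

theorem pts_spec : ∀ i < 112, LTest (pv (pts.getD i 0)) ∧ sqNorm (pv (pts.getD i 0)) = 32 ∧
    dotInt (pv kFive) (pv (pts.getD i 0)) = 24 ∧ dotInt (pv kPair) (pv (pts.getD i 0)) = 16 ∧
      dotInt (pv kMcl) (pv (pts.getD i 0)) = 8 := by
  decide +kernel

theorem pts_count : (mclPointsTree.entries.filter fun e =>
    [(kMcl, (8 : ℤ))].all fun q => decide (dotInt (pv q.1) (pv e.1) = q.2)).length = 112 := by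
  decide +kernel

end CfsgLib.LocalEvenB.McLUnitary
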