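import Cfsg.Agent.Lib.LocalEvenB.McLUnitary.Check
import Cfsg.Agent.Lib.Classical.Unitary.MatrixStructure
import Cfsg.Agent.Lib.Classical.Unitary.Two

/-!
# PSU₄(3) on the 112 lines
-/

set_option autoImplicit false

namespace CfsgLib.LocalEvenB.McLUnitary

open scoped Matrix

/-- The matrix of an element. -/
def mat {F : Type*} [Field F] (g : Cfsg.SU 4 F 3) : Matrix (Fin 4) (Fin 4) F :=
  ((g : Matrix.SpecialLinearGroup (Fin 4) F) : Matrix (Fin 4) (Fin 4) F)

theorem mat_mul {F : Type*} [Field F] (g h : Cfsg.SU 4 F 3) : mat (g * h) = mat g * mat h := rfl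

theorem mat_one {F : Type*} [Field F] : mat (1 : Cfsg.SU 4 F 3) = 1 := rfl

theorem mat_inj {F : Type*} [Field F] : Function.Injective (mat (F := F)) :=
  fun _ _ h => Subtype.ext (Subtype.ext h)

theorem mat_preserves {F : Type*} [Field F] (g : Cfsg.SU 4 F 3) (u v : Fin 4 → F) :
    Cfsg.hermForm 4 F 3 (mat g *ᵥ u) (mat g *ᵥ v) = Cfsg.hermForm 4 F 3 u v := g.2 u v

/-- A point of a permutation table. -/
def tab (k : Fin 4) (a : Fin 112) : Fin 112 :=
  ⟨(permTab.getD k.val []).getD a.val 0, of_decide_eq_true (List.all_eq_true.1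
    (List.all_eq_true.1 perm_lt k.val (List.mem_range.2 k.isLt)) a.val (List.mem_range.2 a.isLt))⟩

variable {F : Type*} [Field F] [Fintype F] [CharP F 3] {r : F} (hr : r ^ 2 = -1)
  (hF : Fintype.card F = 9)
include hr hF

omit [Fintype F] hF in
theorem form_toV (u v : ℕ) : dec r (herm u v) = Cfsg.hermForm 4 F 3 (toV r u) (toV r v) := by
  rw [dec_herm hr, Cfsg.hermForm, Fin.sum_univ_four]

omit [Fintype F] hF in
theorem isotropic_of {v : ℕ} (h : herm v v = 0) :
    Cfsg.hermForm 4 F 3 (toV r v) (toV r v) = 0 := by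
  rw [← form_toV hr, h, dec_zero hr]

omit [Fintype F] hF in
theorem coef_skew {c : ℕ} (h : c = 3 ∨ c = 6) : dec r c + dec r c ^ 3 = 0 ∧ dec r c ≠ 0 := by
  rw [← dec_fconj hr, ← dec_fadd hr]
  refine ⟨?_, fun h0 => ?_⟩
  · rcases h with rfl | rfl <;> exact dec_zero hr
  · have := dec_inj hr (show c < 9 by omega) (show 0 < 9 by norm_num) (by rw [h0, dec_zero hr])
    omega

/-- The four transvections. -/
theorem exists_gen (k : Fin 4) : ∃ g : Cfsg.SU 4 F 3,
    mat g = Cfsg.unitaryTransvection 4 3 (toV r (genVec.getD k.val 0))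
      (dec r (genCoef.getD k.val 0)) := by
  have hF2 : Fintype.card F = 3 ^ 2 := hF
  have h := gen_ok k.val k.isLt
  exact ⟨_, CfsgLib.Classical.Herm.suEquiv_symm_tr hF2
    (v := toV r (genVec.getD k.val 0)) (isotropic_of hr h.1)
    (c := dec r (genCoef.getD k.val 0)) (coef_skew hr h.2.1).1⟩

/-- A transvection among the generators. -/
noncomputable def gen (k : Fin 4) : Cfsg.SU 4 F 3 := (exists_gen hr hF k).choose

theorem mat_gen (k : Fin 4) : mat (gen hr hF k) =
    Cfsg.unitaryTransvection 4 3 (toV r (genVec.getD k.val 0))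
      (dec r (genCoef.getD k.val 0)) := (exists_gen hr hF k).choose_spec

theorem gen_apply (k : Fin 4) (x : ℕ) (i : Fin 4) :
    (mat (gen hr hF k) *ᵥ toV r x) i =
      dec r (transv (genVec.getD k.val 0) (genCoef.getD k.val 0) x i.val) := by
  rw [mat_gen, CfsgLib.Classical.Herm.unitaryTransvection_mulVec (show Fintype.card F = 3 ^ 2 from hF),
    CfsgLib.Classical.Herm.hermStd_apply, ← form_toV hr, transv, dec_fadd hr, dec_fmul hr,
    dec_fmul hr]
  rfl

/-- The group generated by the four transvections. -/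
noncomputable def gens : Subgroup (Cfsg.SU 4 F 3) := Subgroup.closure (Set.range (gen hr hF))

theorem point_orbit : ∀ x < 280, ∃ g ∈ gens hr hF, ∃ a : F, a ≠ 0 ∧
    mat g *ᵥ toV r (points.getD root 0) = a • toV r (points.getD x 0) := by
  suffices H : ∀ d, ∀ x < 280, rank.getD x 0 = d → ∃ g ∈ gens hr hF, ∃ a : F, a ≠ 0 ∧
      mat g *ᵥ toV r (points.getD root 0) = a • toV r (points.getD x 0) from
    fun x hx => H _ x hx rfl
  intro d
  induction d using Nat.strong_induction_on with
  | _ d ih =>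
    intro x hx hd
    have h := List.all_eq_true.1 edges_ok x (List.mem_range.2 hx)
    simp only [edgeOK, Bool.or_eq_true, beq_iff_eq, Bool.and_eq_true, decide_eq_true_eq,
      bne_iff_ne, List.all_eq_true, List.mem_range] at h
    rcases h with rfl | ⟨⟨⟨⟨⟨hrk, hk⟩, hq⟩, hne⟩, hlt⟩, he⟩
    · exact ⟨1, one_mem _, 1, one_ne_zero, by rw [mat_one, Matrix.one_mulVec, one_smul]⟩
    · obtain ⟨g, hg, a, ha, hga⟩ := ih _ (hd ▸ hrk) _ hq rfl
      refine ⟨gen hr hF ⟨_, hk⟩ * g, mul_mem (Subgroup.subset_closure ⟨_, rfl⟩) hg,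
        a * dec r (parentScal.getD x 0), mul_ne_zero ha (fun h0 => hne (dec_inj hr hlt
          (by norm_num) (by rw [h0, dec_zero hr]))), ?_⟩
      rw [mat_mul, ← Matrix.mulVec_mulVec, hga, Matrix.mulVec_smul, ← smul_smul]
      congr 1
      funext i
      rw [gen_apply, he i.val i.isLt, dec_fmul hr]
      rfl

theorem gens_top : gens hr hF = ⊤ := by
  have hF2 : Fintype.card F = 3 ^ 2 := hF
  rw [eq_top_iff, ← CfsgLib.Classical.Herm.su_closure_transvections hF2 4 (by norm_num)
    (by norm_num), Subgroup.closure_le]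
  rintro A ⟨v, c, hv, hA⟩
  change mat A = _ at hA
  rw [SetLike.mem_coe]
  by_cases hv0 : v = 0
  · have : A = 1 := mat_inj (by rw [hA, hv0, mat_one]; simp [Cfsg.unitaryTransvection])
    rw [this]; exact one_mem _
  -- the coefficient is skew
  have hc : c + c ^ 3 = 0 := by
    obtain ⟨i, hi⟩ := Function.ne_iff.1 hv0
    obtain ⟨f, hf⟩ : ∃ f : Fin 4 → F, Cfsg.hermForm 4 F 3 f v = 1 := by
      refine ⟨Pi.single i (v i ^ 3)⁻¹, ?_⟩
      rw [Cfsg.hermForm, Finset.sum_eq_single i (fun j _ hj => by simp [hj]) (by simp)]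
      simp [inv_mul_cancel₀ (pow_ne_zero 3 (show v i ≠ 0 from hi))]
    have hf' : Cfsg.hermForm 4 F 3 v f = 1 := by
      have h := (CfsgLib.Classical.Herm.hermStd_isHerm (n := 4) hF2).symm v f
      rw [CfsgLib.Classical.Herm.hermStd_apply, CfsgLib.Classical.Herm.hermStd_apply, hf,
        map_one] at h
      exact h.symm
    have h := mat_preserves A f f
    rw [hA, CfsgLib.Classical.Herm.unitaryTransvection_mulVec hF2,
      CfsgLib.Classical.Herm.hermStd_apply, hf, mul_one] at h
    have : Fact (Nat.Prime 3) := ⟨by norm_num⟩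
    have e : ∀ (x y : Fin 4 → F) (a b : F), Cfsg.hermForm 4 F 3 (x + a • y) (x + b • y) =
        Cfsg.hermForm 4 F 3 x x + b ^ 3 * Cfsg.hermForm 4 F 3 x y +
          a * Cfsg.hermForm 4 F 3 y x + a * b ^ 3 * Cfsg.hermForm 4 F 3 y y := fun x y a b => by
      simp only [Cfsg.hermForm, Pi.add_apply, Pi.smul_apply, smul_eq_mul, add_pow_char, mul_pow,
        Finset.mul_sum, ← Finset.sum_add_distrib]
      exact Finset.sum_congr rfl fun j _ => by ring
    rw [e, hv, hf, hf'] at h
    linear_combination h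
  rcases eq_or_ne c 0 with rfl | hc0
  · have : A = 1 := mat_inj (by rw [hA, mat_one]; simp [Cfsg.unitaryTransvection])
    rw [this]; exact one_mem _
  -- normalise the vector
  classical
  obtain ⟨i0, hi0, hlow⟩ : ∃ i : Fin 4, v i ≠ 0 ∧ ∀ j < i, v j = 0 := by
    obtain ⟨i, hi, hmin⟩ := (Finset.univ.filter fun i => v i ≠ 0).exists_min_image id
      (by obtain ⟨i, hi⟩ := Function.ne_iff.1 hv0
          exact ⟨i, Finset.mem_filter.2 ⟨Finset.mem_univ _, hi⟩⟩)
    refine ⟨i, (Finset.mem_filter.1 hi).2, fun j hj => by_contra fun h => ?_⟩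
    exact absurd (hmin j (Finset.mem_filter.2 ⟨Finset.mem_univ _, h⟩)) (not_le.2 hj)
  choose d hd9 hd using fun j => dec_surjective hr hF ((v i0)⁻¹ * v j)
  set code := d 0 + 9 * d 1 + 81 * d 2 + 729 * d 3 with hcode
  have hent : ∀ j : Fin 4, ent code j.val = d j := by
    have := hd9 0; have := hd9 1; have := hd9 2; have := hd9 3
    intro j
    fin_cases j <;> simp [ent, hcode] <;> omega
  have hw : toV r code = (v i0)⁻¹ • v := funext fun j => by rw [toV, hent, hd]; rfl
  have hd0 : ∀ j < i0, d j = 0 := fun j hj => dec_inj hr (hd9 j) (by norm_num)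
    (by rw [hd, hlow j hj, mul_zero, dec_zero hr])
  have hd1 : d i0 = 1 := dec_inj hr (hd9 _) (by norm_num)
    (by rw [hd, inv_mul_cancel₀ hi0, dec_one hr])
  have hnorm : normalised code = true := by
    have e0 := hent 0; have e1 := hent 1; have e2 := hent 2; have e3 := hent 3
    simp only [Fin.val_zero, Fin.val_one, Fin.val_two] at e0 e1 e2
    rw [show ((3 : Fin 4) : ℕ) = 3 from rfl] at e3
    unfold normalised
    rw [e0, e1, e2, e3]
    fin_cases i0
    · simp [show d 0 = 1 from hd1]
    · simp [show d 0 = 0 from hd0 0 (by decide), show d 1 = 1 from hd1]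
    · simp [show d 0 = 0 from hd0 0 (by decide), show d 1 = 0 from hd0 1 (by decide),
        show d 2 = 1 from hd1]
    · simp [show d 0 = 0 from hd0 0 (by decide), show d 1 = 0 from hd0 1 (by decide),
        show d 2 = 0 from hd0 2 (by decide), show d 3 = 1 from hd1]
  have hiso : herm code code = 0 := by
    refine dec_inj hr ?_ (by norm_num) ?_
    · unfold herm fadd; omega
    · rw [form_toV hr, hw, dec_zero hr]
      rw [Cfsg.hermForm] at hv ⊢
      simp only [Pi.smul_apply, smul_eq_mul, mul_pow]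
      calc ∑ j, (v i0)⁻¹ * v j * ((v i0)⁻¹ ^ 3 * v j ^ 3)
          = (v i0)⁻¹ ^ 4 * ∑ j, v j * v j ^ 3 := by
            rw [Finset.mul_sum]; exact Finset.sum_congr rfl fun j _ => by ring
        _ = 0 := by rw [hv, mul_zero]
  have hcl : code < 6561 := by
    have := hd9 0; have := hd9 1; have := hd9 2; have := hd9 3; omega
  have hmem := List.all_eq_true.1 points_complete code (List.mem_range.2 hcl)
  simp only [hnorm, hiso, beq_self_eq_true, Bool.and_self, Bool.not_true, Bool.false_or,
    List.contains_iff_mem] at hmem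
  obtain ⟨x, hx, hxe⟩ := List.mem_iff_getElem.1 hmem
  have hx' : x < 280 := points_size.1 ▸ hx
  obtain ⟨g, hg, a, ha, hga⟩ := point_orbit hr hF x hx'
  rw [List.getD_eq_getElem _ _ hx, hxe, hw, smul_smul] at hga
  set b := a * (v i0)⁻¹ with hb
  have hb0 : b ≠ 0 := mul_ne_zero ha (inv_ne_zero hi0)
  -- the conjugate of the first generator
  have hroot := (gen_ok 0 (by norm_num)).2.2
  set c0 := dec r (genCoef.getD 0 0) with hc0'
  have hconj : mat (g * gen hr hF 0 * g⁻¹) = Cfsg.unitaryTransvection 4 3 v (c0 * b ^ 4) := by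
    have hgg : mat g * mat g⁻¹ = 1 := by rw [← mat_mul, mul_inv_cancel, mat_one]
    rw [← Matrix.toLin'.injective.eq_iff]
    refine LinearMap.ext fun y => ?_
    rw [Matrix.toLin'_apply, Matrix.toLin'_apply, mat_mul, mat_mul, ← Matrix.mulVec_mulVec,
      ← Matrix.mulVec_mulVec, mat_gen,
      CfsgLib.Classical.Herm.unitaryTransvection_mulVec hF2,
      CfsgLib.Classical.Herm.unitaryTransvection_mulVec hF2,
      CfsgLib.Classical.Herm.hermStd_apply, CfsgLib.Classical.Herm.hermStd_apply,
      show ((0 : Fin 4) : ℕ) = 0 from rfl, hroot, Matrix.mulVec_add, Matrix.mulVec_mulVec, hgg,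
      Matrix.one_mulVec, Matrix.mulVec_smul, hga]
    congr 1
    rw [← mat_preserves g (mat g⁻¹ *ᵥ y) (toV r (points.getD root 0)), Matrix.mulVec_mulVec, hgg,
      Matrix.one_mulVec, hga, smul_smul]
    congr 1
    simp only [Cfsg.hermForm, Pi.smul_apply, smul_eq_mul, mul_pow, Finset.mul_sum,
      Finset.sum_mul]
    exact Finset.sum_congr rfl fun j _ => by ring
  have hmemc : g * gen hr hF 0 * g⁻¹ ∈ gens hr hF :=
    mul_mem (mul_mem hg (Subgroup.subset_closure ⟨0, rfl⟩)) (inv_mem hg)
  have hskew0 := coef_skew hr (gen_ok 0 (by norm_num)).2.1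
  have hb8 : b ^ 8 = 1 := by
    have := FiniteField.pow_card_sub_one_eq_one b hb0
    rwa [hF] at this
  have hsq : c ^ 2 = (c0 * b ^ 4) ^ 2 := by
    have h1 : c ^ 2 = -1 := by
      refine mul_left_cancel₀ hc0 ?_
      linear_combination hc
    have h2 : c0 ^ 2 = -1 := by
      refine mul_left_cancel₀ hskew0.2 ?_
      linear_combination hskew0.1
    rw [h1, mul_pow, h2, ← pow_mul, hb8, mul_one]
  rcases sq_eq_sq_iff_eq_or_eq_neg.1 hsq with h | h
  · have : A = g * gen hr hF 0 * g⁻¹ := mat_inj (by rw [hA, hconj, h])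
    rw [this]; exact hmemc
  · have : A = (g * gen hr hF 0 * g⁻¹) ^ 2 := mat_inj (by
      rw [hA, sq, mat_mul, hconj, h, ← Matrix.toLin'.injective.eq_iff]
      refine LinearMap.ext fun y => ?_
      simp only [Matrix.toLin'_apply, ← Matrix.mulVec_mulVec,
        CfsgLib.Classical.Herm.unitaryTransvection_mulVec hF2, map_add, map_smulₛₗ, smul_eq_mul]
      have hvv : CfsgLib.Classical.Herm.hermStd 4 hF2 v v = 0 := hv
      rw [hvv, RingHom.id_apply, mul_zero, add_zero, add_assoc, ← add_smul]
      congr 2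
      linear_combination -(c0 * b ^ 4 * (CfsgLib.Classical.Herm.hermStd 4 hF2 v) y) * three_zero hr)
    rw [this]; exact pow_mem hmemc 2

/-- A line. -/
def line (r : F) (a : Fin 112) : Submodule F (Fin 4 → F) :=
  Submodule.span F {toV r (lineA.getD a.val 0), toV r (lineB.getD a.val 0)}

theorem line_isotropic {a : Fin 112} {x y : Fin 4 → F} (hx : x ∈ line r a)
    (hy : y ∈ line r a) : Cfsg.hermForm 4 F 3 x y = 0 := by
  have hF2 : Fintype.card F = 3 ^ 2 := hF
  have h := List.all_eq_true.1 lines_isotropic a.val (List.mem_range.2 a.isLt)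
  simp only [Bool.and_eq_true, beq_iff_eq] at h
  obtain ⟨p, q, rfl⟩ := Submodule.mem_span_pair.1 hx
  obtain ⟨p', q', rfl⟩ := Submodule.mem_span_pair.1 hy
  rw [← CfsgLib.Classical.Herm.hermStd_apply hF2]
  simp only [map_add, LinearMap.add_apply, CfsgLib.Classical.Herm.smul_left,
    CfsgLib.Classical.Herm.smul_right, CfsgLib.Classical.Herm.hermStd_apply, ← form_toV hr, h,
    dec_zero hr, mul_zero, add_zero]

theorem line_injective : Function.Injective (line r) := by
  intro a b hab
  have h := List.all_eq_true.1 (List.all_eq_true.1 lines_apart a.val (List.mem_range.2 a.isLt))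
    b.val (List.mem_range.2 b.isLt)
  simp only [Bool.or_eq_true, beq_iff_eq, bne_iff_ne] at h
  by_contra hne
  have z : ∀ u w, toV r u ∈ line r a → toV r w ∈ line r b → herm u w = 0 := by
    intro u w hu hw
    refine dec_inj hr (by unfold herm fadd; omega) (by norm_num) ?_
    rw [form_toV hr, dec_zero hr]
    exact line_isotropic hr hF hu (hab ▸ hw)
  have mA : ∀ c : Fin 112, toV r (lineA.getD c.val 0) ∈ line r c :=
    fun c => Submodule.subset_span (Or.inl rfl)
  have mB : ∀ c : Fin 112, toV r (lineB.getD c.val 0) ∈ line r c :=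
    fun c => Submodule.subset_span (Or.inr rfl)
  rcases h with (((h | h) | h) | h) | h
  · exact hne (Fin.ext h)
  · exact h (z _ _ (mA a) (mA b))
  · exact h (z _ _ (mA a) (mB b))
  · exact h (z _ _ (mB a) (mA b))
  · exact h (z _ _ (mB a) (mB b))

/-- The image of a set of vectors. -/
def move (g : Cfsg.SU 4 F 3) (L : Submodule F (Fin 4 → F)) : Submodule F (Fin 4 → F) :=
  L.map (Matrix.mulVecLin (mat g))

theorem gen_line (k : Fin 4) (a : Fin 112) :
    move (gen hr hF k) (line r a) ≤ line r (tab k a) := by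
  have h := List.all_eq_true.1 (List.all_eq_true.1 trans_ok k.val (List.mem_range.2 k.isLt))
    a.val (List.mem_range.2 a.isLt)
  simp only [transOK, Bool.and_eq_true, decide_eq_true_eq, List.all_eq_true, List.mem_range,
    beq_iff_eq] at h
  rw [move, line, Submodule.map_span, Submodule.span_le]
  rintro _ ⟨y, hy, rfl⟩
  rw [Matrix.mulVecLin_apply, SetLike.mem_coe, line, Submodule.mem_span_pair]
  rcases hy with rfl | rfl
  · exact ⟨_, _, funext fun i => by rw [gen_apply, (h.2 i.val i.isLt).1, toV_comb hr]; rfl⟩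
  · exact ⟨_, _, funext fun i => by rw [gen_apply, (h.2 i.val i.isLt).2, toV_comb hr]; rfl⟩

theorem exists_image (g : Cfsg.SU 4 F 3) :
    ∀ a, ∃ b, move g (line r a) ≤ line r b := by
  have hg : g ∈ gens hr hF := by rw [gens_top]; trivial
  rw [gens, ← Subgroup.mem_toSubmonoid, Subgroup.closure_toSubmonoid_of_finite] at hg
  induction hg using Submonoid.closure_induction with
  | mem z hz =>
    obtain ⟨k, rfl⟩ := hz
    exact fun a => ⟨_, gen_line hr hF k a⟩
  | one =>
    exact fun a => ⟨a, by rw [move, mat_one, Matrix.mulVecLin_one, Submodule.map_id]⟩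
  | mul x y _ _ ihx ihy =>
    intro a
    obtain ⟨b, hb⟩ := ihy a
    obtain ⟨c, hc⟩ := ihx b
    refine ⟨c, le_trans ?_ hc⟩
    rw [move, mat_mul, Matrix.mulVecLin_mul, Submodule.map_comp]
    exact Submodule.map_mono hb

theorem image_unique {g : Cfsg.SU 4 F 3} {a b c : Fin 112}
    (hb : move g (line r a) ≤ line r b)
    (hc : move g (line r a) ≤ line r c) : b = c := by
  obtain ⟨a', ha'⟩ := exists_image hr hF g⁻¹ b
  obtain ⟨d, hd⟩ := exists_image hr hF g a'
  have e1 : line r b ≤ line r d := by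
    refine le_trans ?_ (le_trans (Submodule.map_mono ha') hd)
    rw [move, ← Submodule.map_comp, ← Matrix.mulVecLin_mul, ← mat_mul, mul_inv_cancel, mat_one,
      Matrix.mulVecLin_one, Submodule.map_id]
  have key : ∀ x y : Fin 112, line r x ≤ line r y → x = y := by
    intro x y hxy
    refine line_injective hr hF ?_
    by_contra hne
    obtain ⟨z, hz, hz'⟩ := SetLike.exists_of_lt (lt_of_le_of_ne hxy hne)
    have h := List.all_eq_true.1 (List.all_eq_true.1 lines_apart x.val (List.mem_range.2 x.isLt))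
      y.val (List.mem_range.2 y.isLt)
    simp only [Bool.or_eq_true, beq_iff_eq, bne_iff_ne] at h
    have z0 : ∀ u w, toV r u ∈ line r x → toV r w ∈ line r y → herm u w = 0 := by
      intro u w hu hw
      refine dec_inj hr (by unfold herm fadd; omega) (by norm_num) ?_
      rw [form_toV hr, dec_zero hr]
      exact line_isotropic hr hF (hxy hu) hw
    have mA : ∀ c : Fin 112, toV r (lineA.getD c.val 0) ∈ line r c :=
      fun c => Submodule.subset_span (Or.inl rfl)
    have mB : ∀ c : Fin 112, toV r (lineB.getD c.val 0) ∈ line r c :=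
      fun c => Submodule.subset_span (Or.inr rfl)
    rcases h with (((h | h) | h) | h) | h
    · exact hne (by rw [Fin.ext h])
    · exact h (z0 _ _ (mA x) (mA y))
    · exact h (z0 _ _ (mA x) (mB y))
    · exact h (z0 _ _ (mB x) (mA y))
    · exact h (z0 _ _ (mB x) (mB y))
  have hbd := key b d e1
  subst hbd
  have : line r a ≤ line r a' := by
    refine le_trans ?_ (le_trans (Submodule.map_mono hb) ha')
    rw [move, ← Submodule.map_comp, ← Matrix.mulVecLin_mul, ← mat_mul, inv_mul_cancel, mat_one,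
      Matrix.mulVecLin_one, Submodule.map_id]
  have haa := key a a' this
  subst haa
  refine key b c (le_trans ?_ hc)
  refine le_trans ?_ (Submodule.map_mono ha')
  rw [move, ← Submodule.map_comp, ← Matrix.mulVecLin_mul, ← mat_mul, mul_inv_cancel, mat_one,
    Matrix.mulVecLin_one, Submodule.map_id]

/-- The image of a line index. -/
noncomputable def img (g : Cfsg.SU 4 F 3) (a : Fin 112) : Fin 112 := (exists_image hr hF g a).choose

theorem img_spec (g : Cfsg.SU 4 F 3) (a : Fin 112) :
    move g (line r a) ≤ line r (img hr hF g a) :=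
  (exists_image hr hF g a).choose_spec

theorem img_mul (g h : Cfsg.SU 4 F 3) (a : Fin 112) :
    img hr hF (g * h) a = img hr hF g (img hr hF h a) := by
  refine image_unique hr hF (img_spec hr hF _ a) ?_
  rw [move, mat_mul, Matrix.mulVecLin_mul, Submodule.map_comp]
  exact le_trans (Submodule.map_mono (img_spec hr hF h a)) (img_spec hr hF g _)

theorem img_one (a : Fin 112) : img hr hF 1 a = a :=
  image_unique hr hF (img_spec hr hF _ a)
    (by rw [move, mat_one, Matrix.mulVecLin_one, Submodule.map_id])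

/-- The action on the lines. -/
noncomputable def act : Cfsg.SU 4 F 3 →* Equiv.Perm (Fin 112) where
  toFun g := ⟨img hr hF g, img hr hF g⁻¹,
    fun a => by rw [← img_mul, inv_mul_cancel, img_one],
    fun a => by rw [← img_mul, mul_inv_cancel, img_one]⟩
  map_one' := Equiv.ext fun a => img_one hr hF a
  map_mul' g h := Equiv.ext fun a => img_mul hr hF g h a

theorem act_gen (k : Fin 4) (a : Fin 112) : act hr hF (gen hr hF k) a = tab k a :=
  image_unique hr hF (img_spec hr hF _ a) (gen_line hr hF k a)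

theorem card_center_four : Nat.card (Subgroup.center (Cfsg.SU 4 F 3)) = 4 :=
  CfsgLib.Classical.Herm.card_center_SU (show Fintype.card F = 3 ^ 2 from hF) 4 (by norm_num)

theorem card_psu : Nat.card (Cfsg.PSU 4 F 3) = 3265920 := by
  have hP := CfsgLib.Classical.Herm.card_PSU (show Fintype.card F = 3 ^ 2 from hF) 4 (by norm_num)
  norm_num [Finset.prod_range_succ, Nat.even_iff] at hP
  omega

theorem center_le_ker : Subgroup.center (Cfsg.SU 4 F 3) ≤ (act hr hF).ker := by
  have hr4 : r ^ 4 = 1 := by linear_combination (r ^ 2 - 1) * hr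
  have hZ : ∀ e : ℕ, ∃ z : Cfsg.SU 4 F 3, mat z = r ^ e • (1 : Matrix (Fin 4) (Fin 4) F) := by
    intro e
    refine ⟨⟨⟨r ^ e • (1 : Matrix (Fin 4) (Fin 4) F), by
      rw [Matrix.det_smul, Matrix.det_one, mul_one, Fintype.card_fin, ← pow_mul, mul_comm, pow_mul,
        hr4, one_pow]⟩, ?_⟩, rfl⟩
    intro u v
    change Cfsg.hermForm 4 F 3 ((r ^ e • (1 : Matrix (Fin 4) (Fin 4) F)) *ᵥ u)
      ((r ^ e • (1 : Matrix (Fin 4) (Fin 4) F)) *ᵥ v) = _
    rw [Matrix.smul_mulVec, Matrix.smul_mulVec, Matrix.one_mulVec, Matrix.one_mulVec]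
    simp only [Cfsg.hermForm, Pi.smul_apply, smul_eq_mul, mul_pow]
    refine Finset.sum_congr rfl fun j _ => ?_
    have : r ^ e * (r ^ e) ^ 3 = 1 := by rw [← pow_succ', ← pow_mul, mul_comm, pow_mul, hr4, one_pow]
    linear_combination (u j * v j ^ 3) * this
  choose z hz using fun e : Fin 4 => hZ e.val
  have hzmem : ∀ e, z e ∈ Subgroup.center (Cfsg.SU 4 F 3) := fun e =>
    Subgroup.mem_center_iff.2 fun x => mat_inj (by
      rw [mat_mul, mat_mul, hz]; simp)
  have hinj : Function.Injective fun e => (⟨z e, hzmem e⟩ : Subgroup.center (Cfsg.SU 4 F 3)) := by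
    intro e f h
    have h1 := congrArg (fun w : Subgroup.center (Cfsg.SU 4 F 3) => mat w.1 0 0) h
    simp only [hz, Matrix.smul_apply, Matrix.one_apply_eq, smul_eq_mul, mul_one] at h1
    have hne : ∀ a b : ℕ, a < 4 → b < 4 → r ^ a = r ^ b → a = b := by
      intro a b ha hb hab
      have hd : ∀ n, n < 4 → r ^ n = dec r ([1, 3, 2, 6].getD n 0) := by
        intro n hn
        interval_cases n
        · simp [dec_one hr]
        · simp [dec]
        · simp [dec, hr]; linear_combination -three_zero hr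
        · simp [dec]; linear_combination r * hr - r * three_zero hr
      rw [hd a ha, hd b hb] at hab
      have := dec_inj hr (by interval_cases a <;> norm_num) (by interval_cases b <;> norm_num) hab
      interval_cases a <;> interval_cases b <;> simp at this ⊢
    exact Fin.ext (hne _ _ e.isLt f.isLt h1)
  have hbij : Function.Bijective fun e => (⟨z e, hzmem e⟩ : Subgroup.center (Cfsg.SU 4 F 3)) :=
    hinj.bijective_of_nat_card_le (by rw [card_center_four hr hF, Nat.card_fin])
  intro w hw
  obtain ⟨e, he⟩ := hbij.2 ⟨w, hw⟩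
  refine MonoidHom.mem_ker.2 (Equiv.ext fun a => ?_)
  refine image_unique hr hF (img_spec hr hF w a) ?_
  rintro _ ⟨y, hy, rfl⟩
  rw [Equiv.Perm.one_apply, show w = z e from (congrArg Subtype.val he).symm,
    Matrix.mulVecLin_apply, hz, Matrix.smul_mulVec, Matrix.one_mulVec]
  exact Submodule.smul_mem _ _ hy

/-- The action of the simple quotient. -/
noncomputable def pact : Cfsg.PSU 4 F 3 →* Equiv.Perm (Fin 112) :=
  QuotientGroup.lift _ (act hr hF) (center_le_ker hr hF)

theorem pact_injective : Function.Injective (pact hr hF) := by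
  have : IsSimpleGroup (Cfsg.PSU 4 F 3) :=
    CfsgLib.Classical.Herm.isSimpleGroup_PSU' (show Fintype.card F = 3 ^ 2 from hF) 4
      (by norm_num) (by norm_num)
  rcases (MonoidHom.normal_ker (pact hr hF)).eq_bot_or_eq_top with h | h
  · exact (MonoidHom.ker_eq_bot_iff _).1 h
  · exfalso
    have h2 : QuotientGroup.mk (gen hr hF 0) ∈ (pact hr hF).ker := by rw [h]; trivial
    obtain ⟨a, ha, hne⟩ := perm_moves
    have h3 := congrArg (fun p : Equiv.Perm (Fin 112) => p ⟨a, ha⟩) (MonoidHom.mem_ker.1 h2)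
    change act hr hF _ ⟨a, ha⟩ = (⟨a, ha⟩ : Fin 112) at h3
    rw [act_gen] at h3
    exact hne (congrArg Fin.val h3)

theorem pact_range {H : Subgroup (Equiv.Perm (Fin 112))}
    (hgen : ∀ k, act hr hF (gen hr hF k) ∈ H) : (pact hr hF).range ≤ H := by
  rintro _ ⟨q, rfl⟩
  obtain ⟨x, rfl⟩ := QuotientGroup.mk_surjective q
  show act hr hF x ∈ H
  have hx : x ∈ gens hr hF := by rw [gens_top]; trivial
  refine (Subgroup.closure_le (H.comap (act hr hF))).2 ?_ hx
  rintro _ ⟨k, rfl⟩
  exact hgen k

end CfsgLib.LocalEvenB.McLUnitary
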