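import Cfsg.Agent.Lib.Sporadic.ConwaySmallStab
import Cfsg.Agent.Lib.LocalEvenB.McLUnitary.Lines

/-!
# The point stabiliser in the McLaughlin configuration is PSU₄(3)
-/

set_option autoImplicit false

namespace CfsgLib.LocalEvenB.McLUnitary

open Cfsg CfsgLib.Sporadic.Conway CfsgLib.ThreeTrans.Leech CfsgLib.Sporadic.Lattice MulAction

/-- The stabiliser. -/
noncomputable def stab : Subgroup ↥Co0 := fixGroup [mclPt, fiveElt, pairElt]

theorem card_stab : Nat.card ↥stab = 3265920 := by
  have hmem : mclPt ∈ DS [(fiveElt, (24 : ℤ)), (pairElt, 16)] := by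
    refine ⟨?_, ?_⟩
    · show sqNorm (pv kMcl) = 32
      decide +kernel
    · simp only [List.forall_mem_cons]
      refine ⟨?_, ?_, by simp⟩
      · show dotInt (pv kFive) (pv kMcl) = 24
        decide +kernel
      · show dotInt (pv kPair) (pv kMcl) = 16
        decide +kernel
  have h := card_fix (f := [fiveElt, pairElt]) (ks := [(fiveElt, (24 : ℤ)), (pairElt, 16)])
    (r := mclPt) (by simp) hmem mcl_set.2.1
  rw [card_fix_mcl, mcl_set.1] at h
  show Nat.card ↥(fixGroup [mclPt, fiveElt, pairElt]) = 3265920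
  omega

/-- The 112 points. -/
noncomputable def points112 : Set ↥leechLattice :=
  DS [(fiveElt, (24 : ℤ)), (pairElt, 16), (mclPt, 8)]

/-- One of them. -/
noncomputable def pt' (i : Fin 112) : ↥leechLattice :=
  ⟨pv (pts.getD i.val 0), pv_mem (pts_spec i.val i.isLt).1⟩

theorem pt'_mem (i : Fin 112) : pt' i ∈ points112 := by
  obtain ⟨-, h1, h2, h3, h4⟩ := pts_spec i.val i.isLt
  refine ⟨h1, ?_⟩
  simp only [List.forall_mem_cons]
  exact ⟨h2, h3, h4, by simp⟩

theorem pt'_injective : Function.Injective pt' := by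
  intro i j h
  have hlt : ∀ i : Fin 112, pts.getD i.val 0 < 2 ^ 96 := fun i => of_decide_eq_true
    (List.all_eq_true.1 pts_nodup.2 i.val (List.mem_range.2 i.isLt))
  have h1 := pv_inj (hlt i) (hlt j) (congrArg Subtype.val h)
  exact Fin.ext (List.inj_on_of_nodup_map pts_nodup.1 (List.mem_range.2 i.isLt)
    (List.mem_range.2 j.isLt) h1)

theorem range_pt' : Set.range pt' = points112 := by
  obtain ⟨h1, h2⟩ := ds_bound (ls := [(fiveElt, (24 : ℤ)), (pairElt, 16), (mclPt, 8)])
    mcl_set.2.2 (by simp) [(kMcl, 8)] (by simp [mclPt, elt, kMcl]) (n := 112) pts_count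
  refine Set.eq_of_subset_of_ncard_le (by rintro _ ⟨i, rfl⟩; exact pt'_mem i) ?_ h1
  rw [Set.ncard_range_of_injective pt'_injective, Nat.card_fin]
  exact h2

theorem stab_smul_mem (g : ↥stab) {x : ↥leechLattice} (hx : x ∈ points112) :
    (g : ↥Co0) • x ∈ points112 := by
  refine smul_mem_DS (fun p hp => ?_) hx
  have hg := mem_fixGroup.1 g.2
  simp only [List.mem_cons, List.not_mem_nil, or_false] at hp
  rcases hp with rfl | rfl | rfl <;> exact hg _ (by simp)

/-- The labelling of the points. -/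
noncomputable def label : Fin 112 ≃ points112 :=
  Equiv.ofBijective (fun i => ⟨pt' i, pt'_mem i⟩)
    ⟨fun i j h => pt'_injective (congrArg Subtype.val h), fun x => by
      obtain ⟨i, hi⟩ := range_pt'.symm.le x.2
      exact ⟨i, Subtype.ext hi⟩⟩

/-- The permutation of the points by an element of the stabiliser. -/
noncomputable def perm' (g : ↥stab) : Equiv.Perm points112 where
  toFun x := ⟨(g : ↥Co0) • x.1, stab_smul_mem g x.2⟩
  invFun x := ⟨((g⁻¹ : ↥stab) : ↥Co0) • x.1, stab_smul_mem g⁻¹ x.2⟩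
  left_inv x := Subtype.ext (inv_smul_smul (g : ↥Co0) x.1)
  right_inv x := Subtype.ext (smul_inv_smul (g : ↥Co0) x.1)

/-- The permutation representation of the stabiliser. -/
noncomputable def rep : ↥stab →* Equiv.Perm (Fin 112) where
  toFun g := label.symm.permCongr (perm' g)
  map_one' := Equiv.ext fun i => by
    simp only [Equiv.permCongr_apply, Equiv.symm_symm, Equiv.Perm.one_apply]
    rw [Equiv.symm_apply_eq]
    exact Subtype.ext (one_smul _ _)
  map_mul' a b := Equiv.ext fun i => by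
    simp only [Equiv.permCongr_apply, Equiv.symm_symm, Equiv.Perm.mul_apply,
      Equiv.apply_symm_apply]
    congr 1

theorem exists_word_elt (k : Fin 4) : ∃ g : ↥stab, ∀ a : Fin 112, rep g a = tab k a := by
  have h := List.all_eq_true.1 words_valid k.val (List.mem_range.2 k.isLt)
  rw [Bool.and_eq_true] at h
  obtain ⟨g, hg⟩ := packElt (wordTab.getD k.val []) h.1
  have hfix : ∀ c ∈ [kFive, kPair, kMcl], ∀ v : ↥leechLattice, (v : Vec) = pv c → g • v = v :=
    fun c hc v hv => Subtype.ext ((hg c c (of_decide_eq_true (List.all_eq_true.1 h.2 c hc)) v hv).trans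
      hv.symm)
  have hmem : g ∈ stab := by
    refine mem_fixGroup.2 fun v hv => ?_
    simp only [List.mem_cons, List.not_mem_nil, or_false] at hv
    rcases hv with rfl | rfl | rfl
    · exact hfix kMcl (by simp) _ rfl
    · exact hfix kFive (by simp) _ rfl
    · exact hfix kPair (by simp) _ rfl
  refine ⟨⟨g, hmem⟩, fun a => ?_⟩
  have hs := List.all_eq_true.1 (List.all_eq_true.1 words_step k.val (List.mem_range.2 k.isLt))
    a.val (List.mem_range.2 a.isLt)
  show label.symm.permCongr (perm' ⟨g, hmem⟩) a = _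
  rw [Equiv.permCongr_apply, Equiv.symm_apply_eq, Equiv.symm_symm]
  exact Subtype.ext (Subtype.ext (hg _ _ (of_decide_eq_true hs) (pt' a) rfl))

theorem exists_root {F : Type*} [Field F] [Fintype F] (hF : Fintype.card F = 9) :
    CharP F 3 ∧ ∃ r : F, r ^ 2 = -1 := by
  obtain ⟨p, hp⟩ := CharP.exists F
  obtain ⟨n, hpr, hcard⟩ := FiniteField.card F p
  have hp3 : p = 3 := by
    have h1 : p ∣ 3 ^ 2 := by
      rw [show (3 : ℕ) ^ 2 = Fintype.card F by rw [hF]; norm_num, hcard]
      exact dvd_pow_self p n.ne_zero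
    exact (Nat.prime_dvd_prime_iff_eq hpr (by norm_num)).1 (hpr.dvd_of_dvd_pow h1)
  subst hp3
  refine ⟨hp, ?_⟩
  have hr : ringChar F ≠ 2 := by rw [ringChar.eq F 3]; norm_num
  obtain ⟨r, h⟩ : IsSquare (-1 : F) := by
    rw [FiniteField.isSquare_iff hr (neg_ne_zero.2 one_ne_zero), hF]
    norm_num
  exact ⟨r, by rw [sq, ← h]⟩

theorem stab_iso (F : Type) [Field F] [Fintype F] (hF : Fintype.card F = 9) :
    Nonempty (↥stab ≃* Cfsg.PSU 4 F 3) := by
  obtain ⟨hp, r, hr⟩ := exists_root hF
  have hle : (pact hr hF).range ≤ rep.range := by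
    refine pact_range hr hF fun k => ?_
    obtain ⟨g, hg⟩ := exists_word_elt k
    exact ⟨g, Equiv.ext fun a => by rw [act_gen]; exact hg a⟩
  have hcard : Nat.card (pact hr hF).range = 3265920 := by
    rw [← Nat.card_congr (MonoidHom.ofInjective (pact_injective hr hF)).toEquiv, card_psu hr hF]
  have hfin : Finite ↥stab := Nat.finite_of_card_ne_zero (by rw [card_stab]; norm_num)
  have hsurj := rep.rangeRestrict_surjective
  have hge : Nat.card rep.range ≤ 3265920 := by
    rw [← card_stab]
    exact Nat.card_le_card_of_surjective _ hsurj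
  have heq : (pact hr hF).range = rep.range :=
    Subgroup.eq_of_le_of_card_ge hle (by rw [hcard]; exact hge)
  have hbij : Function.Bijective rep.rangeRestrict :=
    hsurj.bijective_of_nat_card_le (by rw [card_stab, ← heq, hcard])
  exact ⟨((MulEquiv.ofBijective _ hbij).trans (MulEquiv.subgroupCongr heq.symm)).trans
    (MonoidHom.ofInjective (pact_injective hr hF)).symm⟩

theorem mcl_point (u v x : ↥leechLattice) (hu : sqNorm (u : Vec) = 48)
    (hv : sqNorm (v : Vec) = 32 ∧ sqNorm ((u - v) : Vec) = 32)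
    (hx : sqNorm (x : Vec) = 32 ∧ sqNorm ((u - x) : Vec) = 32 ∧ dotInt (v : Vec) (x : Vec) = 16)
    (F : Type) [Field F] [Fintype F] (hF : Fintype.card F = 9) :
    Nonempty (↥(stabilizer ↥Co0 u ⊓ stabilizer ↥Co0 v ⊓ stabilizer ↥Co0 x) ≃*
      Cfsg.PSU 4 F 3) := by
  obtain ⟨a, ha, hb⟩ := to_mcl hu hv
  have hax : a • x ∈ DS [(fiveElt, (24 : ℤ)), (pairElt, 16)] := by
    refine ⟨(norm_smul' a x).trans hx.1, ?_⟩
    simp only [List.forall_mem_cons, List.not_mem_nil, false_imp_iff, implies_true, and_true,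
      ← ha, ← hb, dot_smul']
    exact ⟨(dot24_iff hu hx.1).2 hx.2.1, hx.2.2⟩
  have hmem : mclPt ∈ DS [(fiveElt, (24 : ℤ)), (pairElt, 16)] := by
    refine ⟨?_, ?_⟩
    · show sqNorm (pv kMcl) = 32
      decide +kernel
    · simp only [List.forall_mem_cons]
      refine ⟨?_, ?_, by simp⟩
      · show dotInt (pv kFive) (pv kMcl) = 24
        decide +kernel
      · show dotInt (pv kPair) (pv kMcl) = 16
        decide +kernel
  obtain ⟨g, hg, hgf⟩ := mcl_set.2.1 _ hax _ hmem
  have key : ∀ (c : ↥Co0) (p p' : ↥leechLattice), (g * a) • p = p' →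
      (((g * a) * c * (g * a)⁻¹) • p' = p' ↔ c • p = p) := by
    intro c p p' h
    subst h
    rw [mul_smul, mul_smul, inv_smul_smul, smul_left_cancel_iff]
  have e1 : (g * a) • u = fiveElt := by rw [mul_smul, ha, hgf _ (by simp)]
  have e2 : (g * a) • v = pairElt := by rw [mul_smul, hb, hgf _ (by simp)]
  have e3 : (g * a) • x = mclPt := by rw [mul_smul, hg]
  have e : stabilizer ↥Co0 u ⊓ stabilizer ↥Co0 v ⊓ stabilizer ↥Co0 x =
      stab.comap (MulAut.conj (g * a)).toMonoidHom := by
    ext c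
    simp only [Subgroup.mem_inf, MulAction.mem_stabilizer_iff, Subgroup.mem_comap, stab,
      mem_fixGroup, List.forall_mem_cons, List.not_mem_nil, false_imp_iff, implies_true,
      and_true, MulEquiv.coe_toMonoidHom, MulAut.conj_apply]
    rw [key c _ _ e1, key c _ _ e2, key c _ _ e3]
    tauto
  obtain ⟨φ⟩ := stab_iso F hF
  refine ⟨((MulEquiv.subgroupCongr e).trans ?_).trans φ⟩
  exact ((MulAut.conj (g * a)).subgroupMap _).trans
    (MulEquiv.subgroupCongr (Subgroup.map_comap_eq_self_of_surjective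
      (MulAut.conj (g * a)).surjective _))

end CfsgLib.LocalEvenB.McLUnitary
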